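import Groth.Agent.H87.GmFibre
import Groth.Agent.H87.TorusIn
import Groth.Agent.Lib.ImgMT.TorusDim
import Groth.Agent.Lib.SmWeil.BorelTori
import Groth.Agent.Lib.SemiAbIsog.NormalPts
import Groth.Agent.Lib.GrpQ.Image
import Groth.Agent.Lib.GrpSch.SmoothReduced
import Groth.Agent.H1.GrpIrred
import Groth.Agent.H1.Classical.IsogenyTorus
import Groth.Agent.H1.Classical.MaxTorusExists
import Groth.Agent.Lib.IsogLaw.TorusIff

/-!
# Characters of connected groups over an algebraically closed field
-/

set_option autoImplicit false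
set_option linter.style.haveILetI false
universe u

open CategoryTheory CategoryTheory.Limits MonoidalCategory CartesianMonoidalCategory MonObj GrpObj AlgebraicGeometry
open Groth.Agent.Lib.RedPts Groth.Agent.H87 Groth.Agent.Lib.Tori

namespace Groth.Agent.Lib.CharQuot6

variable {k : Type u} [Field k] [IsAlgClosed k]

/-- Properties of tori over an algebraically closed field. -/
theorem torus_props {T : Over (Spec (CommRingCat.of k))} [GrpObj T] (hT : Red.IsTorus T) :
    Smooth T.hom ∧ QuasiCompact T.hom ∧ ConnectedSpace T.left ∧ IsAffine T.left := by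
  obtain ⟨h1, h2, h3, -⟩ := SmWeil.BorelTori.torus_props hT
  haveI := Tori.Basic.isAffineHom_of_isTorus hT
  exact ⟨h1, h2, h3, isAffine_of_isAffineHom T.hom⟩

theorem gm_props : Smooth (Red.Gm (Spec (CommRingCat.of k))).hom ∧ QuasiCompact (Red.Gm (Spec (CommRingCat.of k))).hom ∧
    ConnectedSpace (Red.Gm (Spec (CommRingCat.of k))).left ∧ IsAffine (Red.Gm (Spec (CommRingCat.of k))).left :=
  torus_props (Tori.Basic.isTorus_Gm _)

omit [IsAlgClosed k] in
/-- Points of `𝔾ₘ` are closed or dense. -/
theorem gm_isClosed_or_dense (x : (Red.Gm (Spec (CommRingCat.of k))).left) :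
    IsClosed ({x} : Set (Red.Gm (Spec (CommRingCat.of k))).left) ∨
      Dense ({x} : Set (Red.Gm (Spec (CommRingCat.of k))).left) := by
  let D := Red.Gm (Spec (CommRingCat.of k))
  let R := MonoidAlgebra k (Multiplicative ℤ)
  obtain ⟨q, hq⟩ := HomDS.exists_fac (S := Spec (CommRingCat.of k)) (𝟙 _) ℤ (X := D) D.hom
    (Category.comp_id _) (𝟙 D)
  let w := HomDS.univPt (S := Spec (CommRingCat.of k)) (A := CommRingCat.of k) (𝟙 _) ℤ
  have hwq : ∀ y, w.left (q.left y) = y := fun y => congr($(congrArg CommaMorphism.left hq).base y)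
  haveI : IsDomain R := inferInstance
  let e : Multiplicative ℤ ≃* Multiplicative (Fin 1 → ℤ) :=
    AddEquiv.toMultiplicative (LinearEquiv.funUnique (Fin 1) ℤ ℤ).symm.toAddEquiv
  have hdim : Ring.KrullDimLE 1 R := by
    rw [Ring.krullDimLE_iff, ringKrullDim_eq_of_ringEquiv (MonoidAlgebra.domCongr k k e).toRingEquiv,
      ImgMT.TorusDim.ringKrullDim_laurent]
  by_cases hz : (q.left x : PrimeSpectrum R).asIdeal = ⊥
  · right
    intro y
    have hs : (q.left x : PrimeSpectrum R) ⤳ (q.left y : PrimeSpectrum R) := by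
      refine (PrimeSpectrum.le_iff_specializes _ _).mp ?_
      exact hz.le.trans bot_le
    have := (hs.map w.left.continuous).mem_closure
    rwa [hwq, hwq] at this
  · left
    have hm := Ring.krullDimLE_one_iff_of_noZeroDivisors.mp hdim _ hz (q.left x : PrimeSpectrum R).isPrime
    have hcl : IsClosed ({q.left x} : Set (PrimeSpectrum R)) :=
      (PrimeSpectrum.isClosed_singleton_iff_isMaximal _).mpr hm
    have : q.left ⁻¹' {q.left x} = {x} := Set.ext fun y =>
      ⟨fun h => (hwq y).symm.trans ((congrArg w.left h).trans (hwq x)), fun h => congrArg q.left h⟩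
    rw [← this]
    exact hcl.preimage q.left.continuous

/-- A character of a connected group is trivial or surjective. -/
theorem eq_one_or_surjective {Q : Over (Spec (CommRingCat.of k))} [GrpObj Q] [Smooth Q.hom] [QuasiCompact Q.hom]
    [ConnectedSpace Q.left] (c : Q ⟶ Red.Gm (Spec (CommRingCat.of k))) [IsMonHom c] :
    c = 1 ∨ Surjective c.left := by
  obtain ⟨hs, hqc, hcn, haff⟩ := gm_props (k := k)
  haveI := hs; haveI := hqc; haveI := hcn; haveI := haff
  haveI : IsReduced Q.left := GrpSch.isReduced_of_smooth_field Q.hom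
  haveI : IsReduced (Red.Gm (Spec (CommRingCat.of k))).left := GrpSch.isReduced_of_smooth_field (Red.Gm _).hom
  haveI : IrreducibleSpace Q.left := H1.GrpIrred.irreducibleSpace_of_isAlgClosed (G := Q)
  have hr : Set.range c.left ⊆ closure {c.left (genericPoint Q.left)} := by
    rintro _ ⟨y, rfl⟩
    exact ((genericPoint_specializes y).map c.left.continuous).mem_closure
  rcases gm_isClosed_or_dense (c.left (genericPoint Q.left)) with hcl | hd
  · left
    rw [hcl.closure_eq] at hr
    let s : Spec (CommRingCat.of k) := IsLocalRing.closedPoint k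
    have he : η[Red.Gm (Spec (CommRingCat.of k))].left s = c.left (genericPoint Q.left) := by
      rw [← IsMonHom.one_hom (f := c), Over.comp_left, Scheme.Hom.comp_apply]
      exact hr ⟨_, rfl⟩
    haveI : IsClosedImmersion η[Red.Gm (Spec (CommRingCat.of k))].left :=
      isClosedImmersion_of_comp_eq_id (Y := Spec (CommRingCat.of k)) (Red.Gm _).hom η[Red.Gm _].left (Over.w _)
    obtain ⟨w, hw⟩ := SemiAbIsog.NormalPts.factor_of_range η[Red.Gm (Spec (CommRingCat.of k))] c (fun y hy => ⟨s, by
      rw [he]; exact (hr hy).symm⟩)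
    rw [← hw, toUnit_unique w (toUnit Q), ← Hom.one_def]
  · right
    haveI : IsDominant c.left := ⟨hd.mono (Set.singleton_subset_iff.2 ⟨_, rfl⟩)⟩
    haveI : IsSchemeTheoreticallyDominant c.left := .of_isDominant c.left
    exact (GrpQ.Image.flat_surjective c).2

omit [IsAlgClosed k] in
/-- The identity is a maximal torus of a torus. -/
theorem isMaxTorus_id {T : Over (Spec (CommRingCat.of k))} [GrpObj T] (hT : Red.IsTorus T) : AGF.IsMaxTorus (𝟙 T) := by
  refine ⟨inferInstance, inferInstance, hT, fun T' _ j _ _ g _ hg => ?_⟩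
  haveI : IsSplitEpi j := ⟨⟨g, hg⟩⟩
  haveI : IsIso j := isIso_of_mono_of_isSplitEpi j
  rw [show g = inv j from (IsIso.eq_inv_of_inv_hom_id hg)]
  infer_instance

/-- A smooth connected affine group receiving a surjection from a torus is a torus. -/
theorem isTorus_of_surjective {D Q : Over (Spec (CommRingCat.of k))} [GrpObj D] [GrpObj Q] (hD : Red.IsTorus D)
    [IsAffine Q.left] [Smooth Q.hom] [ConnectedSpace Q.left] (m : D ⟶ Q) [IsMonHom m] [Surjective m.left] :
    Red.IsTorus Q := by
  obtain ⟨hs, hqc, hcn, haff⟩ := torus_props hD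
  haveI := hs; haveI := hqc; haveI := hcn; haveI := haff
  obtain ⟨T, _, iT, p, hT, hp, -⟩ := H1.Classical.IsogenyTorus.exists_image m (𝟙 D) (isMaxTorus_id hD)
  haveI := hT.1
  haveI := hT.2.1
  obtain ⟨hc, -, -, -⟩ := H1.Classical.TorusPts.torus_props iT hT.2.2.1
  haveI := hc
  haveI : Surjective (p.left ≫ iT.left) := by
    rw [← Over.comp_left, hp, Category.id_comp]
    infer_instance
  haveI : Surjective iT.left := Surjective.of_comp p.left iT.left
  haveI := IsogLaw.isIso_of_closed_surjective iT
  haveI : IsMonHom (asIso iT).hom := hT.1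
  exact Tori.Basic.isTorus_congr (BaseChange.grpIso (asIso iT)).symm hT.2.2.1

/-- A character trivial on a maximal torus is trivial. -/
theorem eq_one_of_maxTorus {Q T₀ : Over (Spec (CommRingCat.of k))} [GrpObj Q] [GrpObj T₀] [IsAffine Q.left]
    [Smooth Q.hom] [ConnectedSpace Q.left] {iT : T₀ ⟶ Q} (hT : AGF.IsMaxTorus iT)
    (c : Q ⟶ Red.Gm (Spec (CommRingCat.of k))) [IsMonHom c] (h : iT ≫ c = 1) : c = 1 := by
  refine (eq_one_or_surjective c).resolve_right fun hsur => ?_
  obtain ⟨hs, hqc, hcn, haff⟩ := gm_props (k := k)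
  haveI := hs; haveI := hqc; haveI := hcn; haveI := haff
  haveI := hsur
  obtain ⟨T, _, iT', p, hT', hp, hps⟩ := H1.Classical.IsogenyTorus.exists_image c iT hT
  haveI : IsIso iT' := hT'.2.2.2 _ (𝟙 _) iT' (Tori.Basic.isTorus_Gm _) (Category.comp_id _)
  haveI : IsIso iT'.left := ((Over.forget _).mapIso (asIso iT')).isIso_hom
  haveI := hps
  haveI := hT.1
  haveI : Smooth T₀.hom := Tori.Basic.smooth_of_isTorus hT.2.2.1
  haveI := Tori.Basic.isAffineHom_of_isTorus hT.2.2.1
  haveI : Surjective (iT ≫ c).left := by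
    rw [← hp, Over.comp_left]
    infer_instance
  haveI : Flat (iT ≫ c).left := GrpQ.flat_of_surjective_of_smooth (iT ≫ c)
  let D := Red.Gm (Spec (CommRingCat.of k))
  have hid : (𝟙 D : D ⟶ D) = 1 := GrpQ.cancel_cover (GrpQ.isCover_hom (iT ≫ c)) (by
    rw [Category.comp_id, MonObj.comp_one, h])
  have h1 : ∀ {X : Over (Spec (CommRingCat.of k))} (x : X ⟶ D), x = 1 := fun x => by
    rw [← Category.comp_id x, hid, MonObj.comp_one]
  have := HomDS.chi_injective (S := Spec (CommRingCat.of k)) (A := CommRingCat.of k) (𝟙 _)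
    (M := ℤ) (m := 1) (m' := 0) ((h1 _).trans (h1 _).symm)
  exact one_ne_zero this

end Groth.Agent.Lib.CharQuot6
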