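import Groth.Agent.Lib.CharQuot6.Gm
import Groth.Agent.Lib.ImgMT.Subtori
import Groth.Agent.Lib.GrpQ.Rosenlicht
import Groth.Agent.Lib.GrpQ.AffKer
import Groth.Agent.Lib.GrpQ.FlatHom
import Groth.Agent.Lib.GrpQ.RedSubgroup
import Groth.Agent.Lib.TorsorNorm.Complement
import Groth.Agent.Lib.WittU.Criteria
import Groth.Agent.Lib.Flat55.EtaleCoverConnected
import Groth.Agent.Lib.GrpSch.Translate
import Groth.Agent.H56.GeomDescent
import Groth.Agent.H1.Classical.Smooth

/-!
# The universal torus quotient of a smooth connected affine group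
-/

set_option autoImplicit false
set_option linter.style.haveILetI false
universe u

open CategoryTheory CategoryTheory.Limits MonoidalCategory CartesianMonoidalCategory MonObj GrpObj AlgebraicGeometry
open Groth.Agent.Lib.RedPts Groth.Agent.H87 Groth.Agent.Lib.Tori

namespace Groth.Agent.Lib.CharQuot6

variable {k : Type u} [Field k] [IsAlgClosed k]

omit [IsAlgClosed k] in
/-- Characters of a split torus. -/
theorem exists_chi {M : Type} [AddCommGroup M] (v : Red.DS (Spec (CommRingCat.of k)) M ⟶ Red.Gm (Spec (CommRingCat.of k)))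
    [IsMonHom v] : ∃ m : M, v = Red.chi _ m := by
  obtain ⟨m, hm⟩ := HomDS.exists_char (S := Spec (CommRingCat.of k)) (A := CommRingCat.of k) (𝟙 _) (M := M) v
  refine ⟨m, ?_⟩
  obtain ⟨r, hr⟩ := HomDS.exists_fac (S := Spec (CommRingCat.of k)) (A := CommRingCat.of k) (𝟙 _) M
    (X := Red.DS (Spec (CommRingCat.of k)) M) (Red.DS _ M).hom (Category.comp_id _) (𝟙 _)
  rw [← Category.id_comp v, ← Category.id_comp (Red.chi _ m), ← hr, Category.assoc, hm, Category.assoc]

omit [IsAlgClosed k] in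
theorem gm_comm' {X : Over (Spec (CommRingCat.of k))} (a b : X ⟶ Red.Gm (Spec (CommRingCat.of k))) :
    a * b = b * a := HomDS.gm_comm a b

/-- **The torus through which all characters factor.** -/
theorem exists_charQuot (Q : Over (Spec (CommRingCat.of k))) [GrpObj Q] [IsAffine Q.left] [Smooth Q.hom]
    [ConnectedSpace Q.left] :
    ∃ (s : ℕ) (q : Q ⟶ Red.DS (Spec (CommRingCat.of k)) (Fin s → ℤ)) (T₀ : Over (Spec (CommRingCat.of k)))
      (_ : GrpObj T₀) (iT : T₀ ⟶ Q), IsMonHom q ∧ AGF.IsMaxTorus iT ∧ Surjective (iT ≫ q).left ∧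
      Surjective q.left ∧
      ∀ χ : Q ⟶ Red.Gm (Spec (CommRingCat.of k)), IsMonHom χ →
        ∃ χ' : Red.DS (Spec (CommRingCat.of k)) (Fin s → ℤ) ⟶ Red.Gm _, IsMonHom χ' ∧ q ≫ χ' = χ := by
  classical
  obtain ⟨T₀, _, iT, hT⟩ := H1.Classical.MaxTorusExists.exists_maxTorus Q
  haveI := hT.1
  obtain ⟨r, ⟨e⟩⟩ := TorusIn.exists_split T₀ hT.2.2.1
  let j := BaseChange.overIso e
  have uniq : ∀ χ χ' : Q ⟶ Red.Gm (Spec (CommRingCat.of k)), IsMonHom χ → IsMonHom χ' →
      iT ≫ χ = iT ≫ χ' → χ = χ' := by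
    intro χ χ' h h' he
    haveI := h
    haveI := h'
    haveI := HomDS.isMonHom_div χ χ'
    exact mul_inv_eq_one.mp (eq_one_of_maxTorus hT _ ((HomDS.comp_div_eq_one_iff χ χ' iT).mpr he))
  have hmul : ∀ χ χ' : Q ⟶ Red.Gm (Spec (CommRingCat.of k)), IsMonHom χ → IsMonHom χ' → IsMonHom (χ * χ') := by
    intro χ χ' h h'
    haveI := h
    haveI := h'
    refine HomDS.isMonHom_of_points (χ * χ') fun X a b => ?_
    rw [comp_mul, comp_mul, comp_mul, MonObj.mul_comp a b χ, MonObj.mul_comp a b χ']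
    letI : CommGroup (X ⟶ Red.Gm (Spec (CommRingCat.of k))) :=
      { (inferInstance : Group (X ⟶ Red.Gm (Spec (CommRingCat.of k)))) with mul_comm := gm_comm' }
    exact mul_mul_mul_comm _ _ _ _
  have hone : IsMonHom (1 : Q ⟶ Red.Gm (Spec (CommRingCat.of k))) :=
    HomDS.isMonHom_of_points (1 : Q ⟶ Red.Gm (Spec (CommRingCat.of k))) fun X a b => by
      rw [MonObj.comp_one, MonObj.comp_one, MonObj.comp_one, _root_.one_mul]
  let M : AddSubgroup (Fin r → ℤ) :=
    { carrier := {m | ∃ χ : Q ⟶ Red.Gm _, IsMonHom χ ∧ iT ≫ χ = j.hom ≫ Red.chi _ m}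
      zero_mem' := ⟨1, hone, by rw [MonObj.comp_one, Gm.chi_zero]⟩
      add_mem' := by
        rintro a b ⟨χ, h, he⟩ ⟨χ', h', he'⟩
        exact ⟨χ * χ', hmul _ _ h h', by rw [comp_mul, he, he', Gm.chi_add]⟩
      neg_mem' := by
        rintro a ⟨χ, h, he⟩
        haveI := hone
        haveI := h
        refine ⟨1 * χ⁻¹, HomDS.isMonHom_div _ _, ?_⟩
        rw [comp_mul, comp_inv, he, MonObj.comp_one, _root_.one_mul, inv_eq_iff_mul_eq_one, ← Gm.chi_add,
          add_neg_cancel, Gm.chi_zero] }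
  haveI : Module.Finite ℤ M := Module.Finite.iff_addGroup_fg.mpr ((AddGroup.fg_iff_addSubgroup_fg M).mpr
    (Submodule.fg_iff_addSubgroup_fg M.toIntSubmodule |>.mp (IsNoetherian.noetherian _)))
  haveI : Module.Free ℤ M := inferInstance
  let s := Module.finrank ℤ M
  let b : (Fin s → ℤ) ≃+ M := (Module.finBasis ℤ M).equivFun.symm.toAddEquiv
  let φ : (Fin s → ℤ) →+ (Fin r → ℤ) := M.subtype.comp b.toAddMonoidHom
  have hφ : Function.Injective φ := Subtype.val_injective.comp b.injective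
  have hc : ∀ a : Fin s → ℤ, ∃ χ : Q ⟶ Red.Gm _, IsMonHom χ ∧ iT ≫ χ = j.hom ≫ Red.chi _ (φ a) := fun a => (b a).2
  choose c hcm hci using hc
  have hcadd : ∀ a a' : Fin s → ℤ, c (a + a') = c a * c a' := fun a a' =>
    uniq _ _ (hcm _) (hmul _ _ (hcm _) (hcm _)) (by rw [comp_mul, hci, hci, hci, map_add, Gm.chi_add])
  have hczero : c 0 = 1 := uniq _ _ (hcm _) hone (by rw [hci, MonObj.comp_one, map_zero, Gm.chi_zero])
  let ch : Multiplicative (Fin s → ℤ) →* Γ(Q.left, ⊤) :=
    { toFun := fun a => Red.gmFn (c a.toAdd)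
      map_one' := by
        show Red.gmFn (c 0) = 1
        rw [hczero, Gm.gmFn_one]
      map_mul' := fun a a' => by
        show Red.gmFn (c (a.toAdd + a'.toAdd)) = _
        rw [hcadd, Gm.gmFn_mul] }
  let q : Q ⟶ Red.DS (Spec (CommRingCat.of k)) (Fin s → ℤ) := Gm.dsPt ch
  have hq : ∀ a, q ≫ Red.chi _ a = c a := fun a => Gm.gmFn_injective (by rw [Gm.gmFn_chi, Gm.dsFn_dsPt]; rfl)
  haveI hqm : IsMonHom q := HomDS.isMonHom_of_points q fun X x y => Gm.dsFn_ext fun a => by
    haveI := hcm a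
    rw [← Gm.gmFn_chi, ← Gm.gmFn_chi, Category.assoc, hq, MonObj.mul_comp x y (c a),
      MonObj.mul_comp _ _ (Red.chi _ a), Category.assoc, Category.assoc, hq]
  have hiq : iT ≫ q = j.hom ≫ Red.DSmap _ φ := Gm.dsFn_ext fun a => by
    rw [← Gm.gmFn_chi, Category.assoc, hq, hci, Gm.gmFn_chi, Gm.dsFn_DSmap]
  have hsurj : Surjective (iT ≫ q).left := by
    haveI := (Loci.ff_DSmap (Spec (CommRingCat.of k)) hφ).2
    haveI : IsIso j.hom.left := inferInstanceAs (IsIso ((Over.forget _).map j.hom))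
    rw [hiq, Over.comp_left]
    infer_instance
  refine ⟨s, q, T₀, inferInstance, iT, hqm, hT, hsurj, ?_, fun χ hχ => ?_⟩
  · haveI : Surjective (iT.left ≫ q.left) := by rw [← Over.comp_left]; exact hsurj
    exact Surjective.of_comp iT.left q.left
  · haveI := hχ
    haveI : IsMonHom j.inv := inferInstance
    obtain ⟨m, hm⟩ := exists_chi (j.inv ≫ iT ≫ χ)
    have hm' : iT ≫ χ = j.hom ≫ Red.chi _ m := by rw [← hm, Iso.hom_inv_id_assoc]
    obtain ⟨a, ha⟩ := b.surjective ⟨m, ⟨χ, hχ, hm'⟩⟩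
    refine ⟨Red.chi _ a, inferInstance, (hq a).trans (uniq _ _ (hcm a) hχ ?_)⟩
    rw [hci, hm', show φ a = m from congrArg Subtype.val ha]

variable {Q : Over (Spec (CommRingCat.of k))} [GrpObj Q] {s : ℕ}
  {q : Q ⟶ Red.DS (Spec (CommRingCat.of k)) (Fin s → ℤ)} [IsMonHom q]

/-- The universality property. -/
abbrev Universal (q : Q ⟶ Red.DS (Spec (CommRingCat.of k)) (Fin s → ℤ)) : Prop :=
  ∀ χ : Q ⟶ Red.Gm (Spec (CommRingCat.of k)), IsMonHom χ →
    ∃ χ' : Red.DS (Spec (CommRingCat.of k)) (Fin s → ℤ) ⟶ Red.Gm _, IsMonHom χ' ∧ q ≫ χ' = χ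

omit [IsMonHom q] in
/-- What dies in the universal torus dies in every torus. -/
theorem kill_of_torus (huniv : Universal q) {Q' : Over (Spec (CommRingCat.of k))} [GrpObj Q']
    (hQ' : Red.IsTorus Q') (q' : Q ⟶ Q') [IsMonHom q'] {X : Over (Spec (CommRingCat.of k))} (x : X ⟶ Q)
    (hx : x ≫ q = 1) : x ≫ q' = 1 := by
  obtain ⟨r, ⟨e⟩⟩ := TorusIn.exists_split Q' hQ'
  let j := BaseChange.overIso e
  haveI : IsMonHom j.hom := inferInstance
  rw [← cancel_mono j.hom, MonObj.one_comp]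
  refine Gm.dsFn_ext fun m => ?_
  rw [← Gm.gmFn_chi, ← Gm.gmFn_chi, MonObj.one_comp]
  obtain ⟨χ', hχ', he⟩ := huniv (q' ≫ j.hom ≫ Red.chi _ m) inferInstance
  haveI := hχ'
  rw [Category.assoc, Category.assoc, ← he, ← Category.assoc, hx, MonObj.one_comp]

variable [IsAffine Q.left] [Smooth Q.hom] [ConnectedSpace Q.left]

/-- A quotient of an affine group by a normal subgroup. -/
theorem exists_quot {N : Over (Spec (CommRingCat.of k))} [GrpObj N] (i : N ⟶ Q) [IsMonHom i] [IsClosedImmersion i.left]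
    (hn : AlgGrp.IsNormalHom i) :
    ∃ (Q' : Over (Spec (CommRingCat.of k))) (_ : GrpObj Q') (q' : Q ⟶ Q'), IsMonHom q' ∧ IsAffine Q'.left ∧
      Smooth Q'.hom ∧ ConnectedSpace Q'.left ∧ GrpQ.IsCover q' ∧ AlgGrp.IsKernel i q' := by
  haveI : QuasiCompact Q.hom := GrpQ.Affinization.qc_of_isAffine Q
  haveI : QuasiSeparated Q.hom := GrpQ.Affinization.qs_of_isAffine Q
  obtain ⟨_, _⟩ := GrpQ.Affinization.exists_grp Q
  obtain ⟨Q', _, q', hq', haff, hlft, hfl, hsur, hK⟩ := GrpQ.AffKer.exists_quotient i hn fun T g hg => by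
    refine ⟨1, ?_⟩
    rw [MonObj.one_comp]
    haveI : IsIso (GrpQ.Affinization.rho Q).left := by
      rw [GrpQ.Affinization.rho_left]
      exact IsAffine.affine
    haveI : IsIso ((Over.forget _).map (GrpQ.Affinization.rho Q)) := ‹_›
    haveI : IsIso (GrpQ.Affinization.rho Q) := isIso_of_reflects_iso _ (Over.forget _)
    rw [← cancel_mono (GrpQ.Affinization.rho Q), MonObj.one_comp]
    exact (hg.trans (by rw [Hom.one_def, ← IsMonHom.one_hom (f := GrpQ.Affinization.rho Q)])).symm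
  haveI := hq'; haveI := haff; haveI := hlft; haveI := hfl; haveI := hsur
  haveI : IsReduced Q.left := GrpSch.isReduced_of_smooth_field Q.hom
  haveI : IsReduced Q'.left := H56.GeomDescent.isReduced_of_flat_surjective q'.left
  haveI : GrpObj (Over.mk Q'.hom) := inferInstanceAs (GrpObj Q')
  exact ⟨Q', inferInstance, q', hq', haff, H1.Classical.Smooth.smooth_of_isReduced Q'.hom,
    q'.left.surjective.connectedSpace q'.left.continuous, GrpQ.isCover_hom q', hK⟩

variable {H : Over (Spec (CommRingCat.of k))} [GrpObj H] {i : H ⟶ Q} [IsMonHom i] [IsClosedImmersion i.left]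

/-- The kernel of the universal torus quotient is smooth and connected. -/
theorem smooth_connected_kernel (huniv : Universal q) [Surjective q.left] (hK : AlgGrp.IsKernel i q) :
    Smooth H.hom ∧ ConnectedSpace H.left := by
  obtain ⟨hTs, hTq, hTc, hTa⟩ := torus_props (Tori.Basic.isTorus_DS (Spec (CommRingCat.of k)) (Fin s → ℤ))
  haveI := hTs; haveI := hTq; haveI := hTc; haveI := hTa
  haveI : IsAffine H.left := isAffine_of_isAffineHom i.left
  haveI : LocallyOfFiniteType H.hom := by rw [← Over.w i]; infer_instance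
  haveI : QuasiCompact H.hom := by rw [← Over.w i]; infer_instance
  obtain ⟨R, _, r, hr, hrc, hrs, hRr⟩ := TorsorNorm.exists_reduced_subgroup_perfect H
  haveI := hr; haveI := hrc; haveI := hrs; haveI := hRr
  haveI : LocallyOfFiniteType R.hom := by rw [← Over.w r]; infer_instance
  obtain ⟨C, _, c, hcm, hco, hcc, hCconn, hrange⟩ := IsogLaw.exists_component R
  haveI := hcm; haveI := hco; haveI := hcc; haveI := hCconn
  haveI : LocallyOfFiniteType C.hom := by rw [← Over.w c]; infer_instance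
  haveI : IsReduced C.left := isReduced_of_isOpenImmersion c.left
  haveI : GrpObj (Over.mk C.hom) := inferInstanceAs (GrpObj C)
  haveI : Smooth C.hom := H1.Classical.Smooth.smooth_of_isReduced C.hom
  let p₀ : Spec (CommRingCat.of k) := IsLocalRing.closedPoint k
  let e := η[H].left p₀
  have hrhomeo : Function.Bijective r.left :=
    ⟨r.left.isClosedEmbedding.injective, r.left.surjective⟩
  let rh : R.left ≃ₜ H.left := r.left.isClosedEmbedding.isEmbedding.toHomeomorphOfSurjective r.left.surjective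
  have hcr : Set.range (c ≫ r).left = connectedComponent e := by
    rw [Over.comp_left, Scheme.Hom.comp_base, TopCat.coe_comp, Set.range_comp, hrange]
    have he : r.left (η[R].left p₀) = e := by
      rw [← Scheme.Hom.comp_apply, ← Over.comp_left, IsMonHom.one_hom]
    rw [← he]
    refine Set.Subset.antisymm (r.left.continuous.image_connectedComponent_subset _) fun y hy => ?_
    refine ⟨rh.symm y, ?_, rh.apply_symm_apply y⟩
    have h := rh.symm.continuous.image_connectedComponent_subset (rh (η[R].left p₀)) ⟨y, hy, rfl⟩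
    rwa [rh.symm_apply_apply] at h
  let j : C ⟶ Q := (c ≫ r) ≫ i
  haveI : IsClosedImmersion (c ≫ r).left := by rw [Over.comp_left]; infer_instance
  haveI : IsClosedImmersion j.left := by rw [Over.comp_left]; infer_instance
  have hn : AlgGrp.IsNormalHom j := by
    refine SemiAbIsog.NormalPts.isNormalHom_of_points j fun g => ?_
    obtain ⟨x, hx⟩ := (GrpQ.mem_kernel hK ((toUnit C ≫ g) * j * (toUnit C ≫ g)⁻¹)).2 (by
      rw [MonObj.mul_comp _ _ q, MonObj.mul_comp _ _ q, GrpObj.inv_comp _ q, show j ≫ q = 1 by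
        simp only [j, Category.assoc, GrpQ.kernel_comp hK, MonObj.comp_one],
        _root_.mul_one, mul_inv_cancel])
    have hxe : η[C] ≫ x = η[H] := by
      haveI := GrpQ.kernel_mono hK
      rw [← cancel_mono i, Category.assoc, hx, IsMonHom.one_hom (f := i), comp_mul, comp_mul, comp_inv,
        ← Category.assoc η[C] (toUnit C), toUnit_unique (η[C] ≫ toUnit C) (𝟙 _), Category.id_comp,
        IsMonHom.one_hom (f := j), Gm.η_eq_one, _root_.mul_one, mul_inv_cancel]
    obtain ⟨w, hw⟩ := SemiAbIsog.NormalPts.factor_of_range (c ≫ r) x (by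
      rw [hcr]
      refine (isPreconnected_range x.left.continuous).subset_connectedComponent ⟨η[C].left p₀, ?_⟩
      rw [← Scheme.Hom.comp_apply, ← Over.comp_left, hxe])
    exact ⟨w, by rw [show w ≫ j = (w ≫ c ≫ r) ≫ i by simp [j], hw, hx]⟩
  obtain ⟨Q', _, q', hq'm, haff, hs', hconn', hcov, hKj⟩ := exists_quot j hn
  haveI := hq'm; haveI := haff; haveI := hs'; haveI := hconn'
  haveI := hcov.1; haveI := hcov.2.1
  haveI : QuasiCompact Q'.hom := GrpQ.Affinization.qc_of_isAffine Q'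
  haveI : QuasiCompact Q.hom := GrpQ.Affinization.qc_of_isAffine Q
  obtain ⟨t, ht⟩ := GrpQ.exists_desc hcov q fun Z x y h => GrpQ.comp_eq_of_kernel hKj q (by
    rw [show j ≫ q = 1 by simp only [j, Category.assoc, GrpQ.kernel_comp hK, MonObj.comp_one], Hom.one_def]) x y h
  haveI : IsMonHom (q' ≫ t) := by rw [ht]; infer_instance
  haveI : IsMonHom t := GrpQ.isMonHom_of_cover hcov t
  haveI : Surjective (q'.left ≫ t.left) := by rw [← Over.comp_left, ht]; infer_instance
  haveI : Surjective t.left := Surjective.of_comp q'.left t.left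
  haveI : Flat t.left := GrpQ.flat_of_surjective_of_smooth t
  haveI : QuasiCompact t.left := GrpQ.quasiCompact_left t
  haveI := GrpSch.isSeparated_of_field (Red.DS (Spec (CommRingCat.of k)) (Fin s → ℤ))
  obtain ⟨N', _, i', hi'm, hi'c, hK', -⟩ := GrpQ.exists_kernel t
  have hfin : {x : WittU.Pts.pt k ⟶ Q' | x ≫ t = 1}.Finite := by
    classical
    haveI : IsLocallyNoetherian H.left := LocallyOfFiniteType.isLocallyNoetherian H.hom
    haveI : CompactSpace H.left := QuasiCompact.compactSpace_of_compactSpace H.hom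
    haveI : IsNoetherian H.left := {}
    haveI : Finite (_root_.ConnectedComponents H.left) :=
      Flat55.EtaleCoverConnected.finite_connectedComponents H.left
    refine Set.Finite.subset (Set.finite_range fun z : _root_.ConnectedComponents H.left =>
      if h : ∃ y : 𝟙_ _ ⟶ H, _root_.ConnectedComponents.mk (y.left p₀) = z then h.choose ≫ i ≫ q' else 1) ?_
    intro x hx
    obtain ⟨y, hy⟩ := GrpSch.exists_lift_point q' x
    obtain ⟨h, hh⟩ := (GrpQ.mem_kernel hK y).2 (by rw [← ht, ← Category.assoc, hy]; exact hx)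
    refine ⟨_root_.ConnectedComponents.mk (h.left p₀), ?_⟩
    have hex : ∃ y : 𝟙_ _ ⟶ H, _root_.ConnectedComponents.mk (y.left p₀) = _root_.ConnectedComponents.mk (h.left p₀) := ⟨h, rfl⟩
    simp only [dif_pos hex]
    rw [← hy, ← hh, Category.assoc]
    set g := hex.choose
    have hg := hex.choose_spec
    let L := (GrpSch.translate (GrpSch.regularAction H) g).hom
    haveI : IsIso L.left := ((Over.forget _).mapIso (GrpSch.translate (GrpSch.regularAction H) g)).isIso_hom
    let d := g⁻¹ * h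
    have e1 : L.left (d.left p₀) = h.left p₀ := by
      rw [← Scheme.Hom.comp_apply, ← Over.comp_left,
        show d ≫ L = g * d from GrpSch.translate_regular_apply g d, mul_inv_cancel_left]
    have e2 : L.left e = g.left p₀ := by
      rw [← Scheme.Hom.comp_apply, ← Over.comp_left,
        show η[H] ≫ L = g * η[H] from GrpSch.translate_regular_apply g _, Gm.η_eq_one, _root_.mul_one]
    have hd : d.left p₀ ∈ connectedComponent e := by
      have h1 : h.left p₀ ∈ connectedComponent (g.left p₀) := by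
        rw [_root_.ConnectedComponents.coe_eq_coe.mp hg]
        exact mem_connectedComponent
      have h2 := L.left.homeomorph.symm.continuous.image_connectedComponent_subset (g.left p₀) ⟨_, h1, rfl⟩
      rw [← e1, ← e2] at h2
      rwa [show L.left.homeomorph.symm (L.left (d.left p₀)) = _ from L.left.homeomorph.symm_apply_apply _,
        show L.left.homeomorph.symm (L.left e) = e from L.left.homeomorph.symm_apply_apply _] at h2
    haveI : IsReduced (𝟙_ (Over (Spec (CommRingCat.of k)))).left := inferInstanceAs (IsReduced (Spec (CommRingCat.of k)))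
    obtain ⟨w, hw⟩ := SemiAbIsog.NormalPts.factor_of_range (c ≫ r) d (by
      rintro _ ⟨a, rfl⟩
      rw [hcr]
      convert hd using 2
      exact Subsingleton.elim (α := PrimeSpectrum k) _ _)
    have h1 : d ≫ i ≫ q' = 1 := by
      rw [← hw, show (w ≫ c ≫ r) ≫ i ≫ q' = (w ≫ j) ≫ q' by simp [j], Category.assoc,
        GrpQ.kernel_comp hKj, MonObj.comp_one]
    rw [MonObj.mul_comp g⁻¹ h (i ≫ q'), GrpObj.inv_comp g (i ≫ q'), inv_mul_eq_one] at h1
    exact h1
  haveI : IsFinite N'.hom := (WittU.Criteria.isFinite_kernel_iff t i' hK').mpr hfin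
  haveI : IsFinite t.left := IsogLaw.isFinite_of_kernel t hK'
  obtain ⟨T, _, e', he', hT⟩ := (IsogLaw.exists_mono_torus_iff t).2
    (Tori.Basic.isTorus_DS (Spec (CommRingCat.of k)) (Fin s → ℤ))
  haveI := he'
  have hQT : Red.IsTorus Q' := Tori.Basic.isTorus_congr (BaseChange.grpIso e') hT
  obtain ⟨v, hv⟩ := (GrpQ.mem_kernel hKj i).2 (kill_of_torus huniv hQT q' i (GrpQ.kernel_comp hK))
  haveI := GrpQ.kernel_mono hK
  haveI := GrpQ.kernel_mono hKj
  have h1 : v ≫ c ≫ r = 𝟙 H := by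
    rw [← cancel_mono i, Category.id_comp]
    simpa [j] using hv
  let iso : C ≅ H := ⟨c ≫ r, v, by rw [← cancel_mono j, Category.assoc, hv, Category.id_comp], h1⟩
  haveI : IsIso iso.inv.left := ((Over.forget _).mapIso iso).isIso_inv
  haveI : IsIso iso.hom.left := ((Over.forget _).mapIso iso).isIso_hom
  refine ⟨?_, iso.hom.left.surjective.connectedSpace iso.hom.left.continuous⟩
  rw [← Over.w iso.inv]
  infer_instance

/-- The kernel of the universal torus quotient has no character. -/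
theorem char_kernel_eq_one (huniv : Universal q) {T₀ : Over (Spec (CommRingCat.of k))} [GrpObj T₀] {iT : T₀ ⟶ Q}
    (hT : AGF.IsMaxTorus iT) [Surjective (iT ≫ q).left] (hK : AlgGrp.IsKernel i q)
    [Smooth H.hom] [ConnectedSpace H.left] (ψ : H ⟶ Red.Gm (Spec (CommRingCat.of k))) [IsMonHom ψ] : ψ = 1 := by
  haveI : IsAffine H.left := isAffine_of_isAffineHom i.left
  haveI : QuasiCompact H.hom := GrpQ.Affinization.qc_of_isAffine H
  refine (eq_one_or_surjective ψ).resolve_right fun hsur => ?_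
  haveI := hsur
  haveI : QuasiCompact Q.hom := GrpQ.Affinization.qc_of_isAffine Q
  haveI := GrpSch.isSeparated_of_field H
  haveI := GrpQ.kernel_mono hK
  obtain ⟨hgs, hgq, hgc, hga⟩ := gm_props (k := k)
  haveI := hgs; haveI := hgq; haveI := hgc; haveI := hga
  have hnH : AlgGrp.IsNormalHom i := fun T g n => by
    obtain ⟨n', hn'⟩ := (GrpQ.mem_kernel hK (g * (n ≫ i) * g⁻¹)).2 (by
      rw [MonObj.mul_comp _ _ q, MonObj.mul_comp _ _ q, GrpObj.inv_comp _ q, Category.assoc, GrpQ.kernel_comp hK,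
        MonObj.comp_one, _root_.mul_one, mul_inv_cancel])
    exact ⟨n', hn'.symm⟩
  obtain ⟨F, hF⟩ := hnH (Q ⊗ H) (fst Q H) (snd Q H)
  haveI : IsIntegral H.left := H1.GrpIrred.isIntegral H
  obtain ⟨χ, -, -, -, hf⟩ := GrpQ.Rosenlicht.units_grp_prod (X := H) (G := Q) (Red.gmFn (F ≫ ψ)) (Gm.isUnit_gmFn _)
  have hF1 : lift (toUnit H ≫ η[Q]) (𝟙 H) ≫ F = 𝟙 H := by
    rw [← cancel_mono i, Category.assoc, ← hF]
    simp only [comp_mul, comp_inv, lift_fst, lift_snd_assoc, ← Hom.one_def, inv_one, _root_.mul_one,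
      _root_.one_mul]
  have hF2 : lift (𝟙 Q) 1 ≫ F = 1 := by
    rw [← cancel_mono i, Category.assoc, ← hF, MonObj.one_comp]
    simp only [comp_mul, comp_inv, lift_fst, lift_snd_assoc, MonObj.one_comp, _root_.mul_one, mul_inv_cancel]
  rw [← Gm.gmFn_comp, ← Category.assoc, hF1, Category.id_comp, ← Gm.gmFn_comp] at hf
  have hχ : χ = 1 := by
    have := congrArg (lift (𝟙 Q) (1 : Q ⟶ H)).left.appTop hf
    rw [← Gm.gmFn_comp, ← Category.assoc, hF2, MonObj.one_comp, Gm.gmFn_one, map_mul, ← Gm.gmFn_comp,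
      ← Category.assoc, lift_snd, MonObj.one_comp, Gm.gmFn_one, _root_.mul_one] at this
    rw [this]
    change _ = ((lift (𝟙 Q) (1 : Q ⟶ H)).left.appTop) ((fst Q H).left.appTop χ)
    rw [← CommRingCat.comp_apply, ← Scheme.Hom.comp_appTop, ← Over.comp_left, lift_fst]
    simp
  rw [hχ, map_one, _root_.one_mul] at hf
  have hinv : F ≫ ψ = snd Q H ≫ ψ := Gm.gmFn_injective hf
  have hψconj : ∀ (X : Over (Spec (CommRingCat.of k))) (g : X ⟶ Q) (n n' : X ⟶ H),
      g * (n ≫ i) * g⁻¹ = n' ≫ i → n' ≫ ψ = n ≫ ψ := by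
    intro X g n n' h
    have h1 : lift g n ≫ F = n' := by
      rw [← cancel_mono i, Category.assoc, ← hF]
      simp only [comp_mul, comp_inv, lift_fst, lift_snd_assoc]
      exact h
    rw [← h1, Category.assoc, hinv, lift_snd_assoc]
  haveI := GrpSch.isSeparated_of_field (Red.Gm (Spec (CommRingCat.of k)))
  obtain ⟨K, _, κ, hκm, hκc, hKψ, -⟩ := GrpQ.exists_kernel ψ
  haveI := hκm; haveI := hκc
  let j : K ⟶ Q := κ ≫ i
  haveI : IsClosedImmersion j.left := by rw [Over.comp_left]; infer_instance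
  have hn : AlgGrp.IsNormalHom j := fun T g n => by
    obtain ⟨n', hn'⟩ := hnH T g (n ≫ κ)
    obtain ⟨n'', hn''⟩ := (GrpQ.mem_kernel hKψ n').2 (by
      rw [hψconj T g (n ≫ κ) n' hn', Category.assoc, GrpQ.kernel_comp hKψ, MonObj.comp_one])
    exact ⟨n'', by simp only [j, ← Category.assoc]; rw [hn'', ← hn']⟩
  obtain ⟨Q', _, q', hq'm, haff, hs', hconn', hcov, hKj⟩ := exists_quot j hn
  haveI := hq'm; haveI := haff; haveI := hs'; haveI := hconn'
  haveI : Flat ψ.left := GrpQ.flat_of_surjective_of_smooth ψ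
  have hψcov : GrpQ.IsCover ψ := GrpQ.isCover_hom ψ
  obtain ⟨w, hw⟩ := GrpQ.exists_desc hψcov (i ≫ q') fun Z x y h => GrpQ.comp_eq_of_kernel hKψ (i ≫ q') (by
    rw [← Category.assoc, GrpQ.kernel_comp hKj, Hom.one_def]) x y h
  haveI : IsMonHom (ψ ≫ w) := by rw [hw]; infer_instance
  haveI : IsMonHom w := GrpQ.isMonHom_of_cover hψcov w
  haveI := hT.1
  obtain ⟨r, ⟨e⟩⟩ := TorusIn.exists_split T₀ hT.2.2.1
  let eo := BaseChange.overIso e
  haveI : IsMonHom eo.inv := inferInstance
  let D := Red.DS (Spec (CommRingCat.of k)) ((Fin r → ℤ) × ℤ)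
  let a : D ⟶ Q := (Red.DSmap _ (AddMonoidHom.inl (Fin r → ℤ) ℤ) ≫ eo.inv) ≫ iT
  let z : D ⟶ Red.Gm _ := Red.DSmap _ (AddMonoidHom.inr (Fin r → ℤ) ℤ)
  haveI : IsMonHom z := Gm.isMonHom_DSmap _
  have hcomm : ∀ (X : Over (Spec (CommRingCat.of k))) (g : X ⟶ Q) (y : X ⟶ Red.Gm _),
      (g ≫ q') * (y ≫ w) = (y ≫ w) * (g ≫ q') := by
    intro X g y
    obtain ⟨X', p, h, hp, hh⟩ := GrpQ.exists_lift hψcov y
    refine GrpQ.cancel_cover hp ?_
    simp only [comp_mul, ← Category.assoc]
    rw [← hh, Category.assoc h ψ w, hw, ← Category.assoc h i q', ← mul_inv_eq_iff_eq_mul,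
      ← MonObj.mul_comp (p ≫ g) (h ≫ i) q', ← GrpObj.inv_comp (p ≫ g) q', ← MonObj.mul_comp _ _ q']
    obtain ⟨n', hn'⟩ := hnH X' (p ≫ g) h
    rw [hn', Category.assoc, ← hw, ← Category.assoc, hψconj X' (p ≫ g) h n' hn', Category.assoc, hw,
      ← Category.assoc]
  let m : D ⟶ Q' := (a ≫ q') * (z ≫ w)
  haveI : IsMonHom m := HomDS.isMonHom_of_points m fun X x y => by
    simp only [m, comp_mul]
    rw [MonObj.mul_comp x y (a ≫ q'), MonObj.mul_comp x y (z ≫ w)]
    have h := hcomm X (y ≫ a) (x ≫ z)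
    simp only [Category.assoc] at h
    simp only [_root_.mul_assoc]
    congr 1
    rw [← _root_.mul_assoc, h, _root_.mul_assoc]
  haveI : Module.Finite ℤ ((Fin r → ℤ) × ℤ) := inferInstance
  have hD : Red.IsTorus D := Tori.Basic.isTorus_DS _ _
  obtain ⟨hDs, hDq, hDc, hDa⟩ := torus_props hD
  haveI := hDs; haveI := hDq; haveI := hDc; haveI := hDa
  obtain ⟨hTs, hTq, hTc, hTa⟩ := torus_props hT.2.2.1
  haveI := hTs; haveI := hTq; haveI := hTc; haveI := hTa
  obtain ⟨hBs, hBq, hBc, hBa⟩ := torus_props (Tori.Basic.isTorus_DS (Spec (CommRingCat.of k)) (Fin s → ℤ))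
  haveI := hBs; haveI := hBq; haveI := hBc; haveI := hBa
  haveI : QuasiCompact Q'.hom := GrpQ.Affinization.qc_of_isAffine Q'
  haveI : Surjective m.left := WittU.Criteria.surjective_of_pts m fun y => by
    haveI := hcov.2.1
    obtain ⟨x, hx⟩ := GrpSch.exists_lift_point q' y
    obtain ⟨t, ht⟩ := GrpSch.exists_lift_point (iT ≫ q) (x ≫ q)
    obtain ⟨h, hh⟩ := (GrpQ.mem_kernel hK ((t ≫ iT)⁻¹ * x)).2 (by
      rw [MonObj.mul_comp _ _ q, GrpObj.inv_comp _ q, Category.assoc, ht, inv_mul_cancel])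
    obtain ⟨d, ⟨hd1, hd2⟩, -⟩ := ImgMT.exists_pt_prod (t ≫ eo.hom) (h ≫ ψ)
    refine ⟨d, ?_⟩
    have e1 : d ≫ a = t ≫ iT := by
      simp only [a, ← Category.assoc]
      rw [hd1, Category.assoc t, Iso.hom_inv_id, Category.comp_id]
    have e2 : d ≫ z ≫ w = (h ≫ i) ≫ q' := by
      rw [← Category.assoc, show d ≫ z = h ≫ ψ from hd2, Category.assoc, hw, Category.assoc]
    rw [← hx]
    simp only [m, comp_mul]
    rw [← Category.assoc, e1, e2, ← MonObj.mul_comp, hh, mul_inv_cancel_left]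
  have hQT : Red.IsTorus Q' := isTorus_of_surjective hD m
  obtain ⟨v, hv⟩ := (GrpQ.mem_kernel hKj i).2 (kill_of_torus huniv hQT q' i (GrpQ.kernel_comp hK))
  have hvκ : v ≫ κ = 𝟙 H := by
    rw [← cancel_mono i, Category.assoc, Category.id_comp]
    exact hv
  have hψ : ψ = 1 := by
    rw [← Category.id_comp ψ, ← hvκ, Category.assoc, GrpQ.kernel_comp hKψ, MonObj.comp_one]
  have h1 : Flat (1 : H ⟶ Red.Gm (Spec (CommRingCat.of k))).left := by rw [← hψ]; infer_instance
  have hid : (𝟙 (Red.Gm (Spec (CommRingCat.of k)))) = 1 := GrpQ.cancel_cover hψcov (by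
    rw [Category.comp_id, MonObj.comp_one, hψ])
  have hall : ∀ {X : Over (Spec (CommRingCat.of k))} (x : X ⟶ Red.Gm (Spec (CommRingCat.of k))), x = 1 :=
    fun x => by rw [← Category.comp_id x, hid, MonObj.comp_one]
  have := HomDS.chi_injective (S := Spec (CommRingCat.of k)) (A := CommRingCat.of k) (𝟙 _)
    (M := ℤ) (m := 1) (m' := 0) ((hall _).trans (hall _).symm)
  exact one_ne_zero this

end Groth.Agent.Lib.CharQuot6
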